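import Groth.Agent.ExactHpLib.QCat
import Groth.Agent.FiltSectLib.Push
import Groth.Agent.RichLib.IsFPAffine
import Groth.Agent.DevissLib.Stalk
import Groth.Agent.GenusPushLib.Main
import Groth.Agent.RDerLib.LeftExact
import Groth.Agent.TwBCLib.Tw
import Groth.Agent.S2297

/-!
# Functors defined by kernels on quasi-coherent modules
-/

set_option autoImplicit false
set_option linter.style.haveILetI false
set_option linter.unusedSectionVars false
set_option backward.isDefEq.respectTransparency false
set_option backward.isDefEq.respectTransparency.types false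
set_option maxHeartbeats 1000000

universe u

open CategoryTheory CategoryTheory.Limits AlgebraicGeometry TopologicalSpace Opposite
open Groth.Agent

noncomputable section

namespace FMKernelLib

variable {X P Y : Scheme.{u}} (p : P ⟶ X) (q : P ⟶ Y) (K : P.Modules)

/-- The functor `M ↦ q_* (p^* M ⊗ K)` on quasi-coherent modules. -/
abbrev fm : QCohCat.QCoh X ⥤ Y.Modules :=
  ObjectProperty.ι (QCohCat.isQCoh X) ⋙ Scheme.Modules.pullback p ⋙ DCoh.tensorRightMod K ⋙ Coh.push q

variable {K}

theorem isQCoh_tw (hK : Coh.IsQCoh K) (M : QCohCat.QCoh X) : Coh.IsQCoh ((TwBCLib.tw p K).obj M.obj) := by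
  haveI : Coh.IsQCoh M.obj := M.property
  haveI : Coh.IsQCoh ((Scheme.Modules.pullback p).obj M.obj) := KFlatLib.isQCoh_pullback p M.obj
  haveI := hK
  exact (Groth.Agent.S2297.result ((Scheme.Modules.pullback p).obj M.obj) K).1

/-- Direct images along affine morphisms keep epimorphisms of quasi-coherent modules. -/
theorem epi_push_affine [IsAffineHom q] {M N : P.Modules} [Coh.IsQCoh M] [Coh.IsQCoh N]
    (a : M ⟶ N) [Epi a] : Epi ((Scheme.Modules.pushforward q).map a) := by
  refine Abelian.epi_of_cokernel_π_eq_zero _ ((DevissLib.isZero_of_support_empty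
    (Set.eq_empty_of_forall_notMem fun x hx => DevissLib.notMem_support_cokernel _ x (fun b => ?_) hx)).eq_of_tgt _ _)
  obtain ⟨U, hxU, t, rfl⟩ := DevissLib.exists_gm_eq _ x b
  obtain ⟨V, hV, hxV, hVU⟩ := Opens.isBasis_iff_nbhd.mp Y.isBasis_affineOpens hxU
  obtain ⟨s, hs⟩ := RichLib.IsFPAffine.appLin_surjective a (hV.preimage q)
    (((Scheme.Modules.pushforward q).obj N).presheaf.map (homOfLE hVU).op t)
  refine ⟨DevissLib.gm ((Scheme.Modules.pushforward q).obj M) x hxV s, ?_⟩
  rw [DevissLib.gm_app]
  exact (congrArg _ hs).trans (DevissLib.gm_map _ hVU x hxV t)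

/-- An exact sequence of quasi-coherent modules stays exact under a direct image preserving epimorphisms onto
the kernel. -/
theorem exact_push {S : ShortComplex P.Modules} (hS : S.Exact) (hg : Epi S.g)
    (hepi : ∀ a : S.X₁ ⟶ kernel S.g, Epi a → Epi ((Scheme.Modules.pushforward q).map a)) :
    (S.map (Scheme.Modules.pushforward q)).Exact := by
  haveI : PreservesFiniteLimits (Scheme.Modules.pushforward q) :=
    haveI : PreservesLimitsOfSize.{0, 0} (Scheme.Modules.pushforward q) :=
      (Scheme.Modules.pullbackPushforwardAdjunction q).rightAdjoint_preservesLimits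
    PreservesLimitsOfSize.preservesFiniteLimits _
  let a : S.X₁ ⟶ kernel S.g := kernel.lift S.g S.f S.zero
  haveI : Epi a := (S.exact_iff_epi_kernel_lift).1 hS
  let T : ShortComplex P.Modules := ShortComplex.mk (kernel.ι S.g) S.g (kernel.condition _)
  have hT : T.Exact := ShortComplex.exact_of_f_is_kernel T (kernelIsKernel _)
  have hT' : (T.map (Scheme.Modules.pushforward q)).Exact :=
    hT.map_of_mono_of_preservesKernel (Scheme.Modules.pushforward q) (inferInstanceAs (Mono (kernel.ι S.g))) inferInstance
  let φ : S.map (Scheme.Modules.pushforward q) ⟶ T.map (Scheme.Modules.pushforward q) :=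
    { τ₁ := (Scheme.Modules.pushforward q).map a
      τ₂ := 𝟙 _
      τ₃ := 𝟙 _
      comm₁₂ := by
        show (Scheme.Modules.pushforward q).map a ≫ (Scheme.Modules.pushforward q).map (kernel.ι S.g) =
          (Scheme.Modules.pushforward q).map S.f ≫ 𝟙 _
        rw [← Functor.map_comp, kernel.lift_ι, Category.comp_id]
      comm₂₃ := by
        show 𝟙 _ ≫ (Scheme.Modules.pushforward q).map S.g = (Scheme.Modules.pushforward q).map S.g ≫ 𝟙 _
        rw [Category.id_comp, Category.comp_id] }
  haveI : Epi φ.τ₁ := hepi a ‹_›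
  haveI : IsIso φ.τ₂ := inferInstanceAs (IsIso (𝟙 _))
  haveI : Mono φ.τ₃ := inferInstanceAs (Mono (𝟙 _))
  exact (ShortComplex.exact_iff_of_epi_of_isIso_of_mono φ).2 hT'

instance additive_fm : (fm p q K).Additive := by
  haveI : (TwBCLib.tw p K).Additive := TwBCLib.additive_tw p K
  haveI : (ObjectProperty.ι (QCohCat.isQCoh X)).Additive := {}
  exact inferInstanceAs (ObjectProperty.ι (QCohCat.isQCoh X) ⋙ TwBCLib.tw p K ⋙ Scheme.Modules.pushforward q).Additive

/-- The twisted pullback of an exact sequence of quasi-coherent modules. -/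
theorem exact_tw {S : ShortComplex (QCohCat.QCoh X)} (hS : S.ShortExact) :
    ((S.map (ObjectProperty.ι (QCohCat.isQCoh X))).map (TwBCLib.tw p K)).Exact ∧
      Epi ((TwBCLib.tw p K).map ((ObjectProperty.ι (QCohCat.isQCoh X)).map S.g)) := by
  haveI := (ExactHpLib.exact_ι X).1
  haveI := (ExactHpLib.exact_ι X).2
  have h := hS.map_of_exact (ObjectProperty.ι (QCohCat.isQCoh X))
  exact ((Functor.preservesFiniteColimits_tfae (TwBCLib.tw p K)).out 3 0 :
    PreservesFiniteColimits (TwBCLib.tw p K) ↔ ∀ S : ShortComplex X.Modules, S.ShortExact →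
      (S.map (TwBCLib.tw p K)).Exact ∧ Epi ((TwBCLib.tw p K).map S.g)).1 inferInstance _ h

variable (hK : Coh.IsQCoh K)

include hK in
/-- Along an affine projection the functor is right exact. -/
theorem preservesFiniteColimits_fm [IsAffineHom q] : PreservesFiniteColimits (fm p q K) := by
  refine ((Functor.preservesFiniteColimits_tfae (fm p q K)).out 0 3 :
    (∀ S : ShortComplex (QCohCat.QCoh X), S.ShortExact →
      (S.map (fm p q K)).Exact ∧ Epi ((fm p q K).map S.g)) ↔ PreservesFiniteColimits (fm p q K)).1 fun S hS => ?_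
  obtain ⟨hex, hg⟩ := exact_tw p (K := K) hS
  let T := (S.map (ObjectProperty.ι (QCohCat.isQCoh X))).map (TwBCLib.tw p K)
  haveI : Coh.IsQCoh T.X₁ := isQCoh_tw p hK S.X₁
  haveI : Coh.IsQCoh T.X₂ := isQCoh_tw p hK S.X₂
  haveI : Coh.IsQCoh T.X₃ := isQCoh_tw p hK S.X₃
  haveI : Coh.IsQCoh (kernel T.g) := QCohLib.isQCoh_kernel T.g
  haveI : Epi T.g := hg
  exact ⟨exact_push q (S := T) hex hg fun a ha => epi_push_affine q a, epi_push_affine q T.g⟩

/-- The functor commutes with direct sums. -/
theorem preservesCoproducts_fm [QuasiCompact q] [QuasiSeparated q] (J : Type u) :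
    PreservesColimitsOfShape (Discrete J) (fm p q K) := by
  haveI : (QCohCat.isQCoh X).IsClosedUnderColimitsOfShape (Discrete J) := ⟨by
    rintro M ⟨c⟩
    exact QCohLib.isQCoh_of_isColimit (fun _ => inferInstance) (fun j => c.prop_diag_obj j) c.isColimit⟩
  haveI : PreservesColimitsOfShape (Discrete J) (Scheme.Modules.pullback p) :=
    haveI := (Scheme.Modules.pullbackPushforwardAdjunction p).leftAdjoint_preservesColimits
    inferInstance
  haveI : PreservesColimitsOfShape (Discrete J) (DCoh.tensorRightMod K) :=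
    inferInstanceAs (PreservesColimitsOfShape (Discrete J) ((DCoh.tensorBi (X := P)).flip.obj K))
  haveI : PreservesColimitsOfShape (Discrete J) (Coh.push q) := FiltSectLib.preservesCoproducts_pushforward q J
  haveI : PreservesColimitsOfShape (Discrete J) (ObjectProperty.ι (QCohCat.isQCoh X)) := inferInstance
  infer_instance

variable [HasInjectiveResolutions P.Modules]

include hK in
/-- With a flat acyclic kernel the functor is exact. -/
theorem exact_fm (hKf : FlatMod.IsFlatOver p K)
    (hKa : ∀ (M : QCohCat.QCoh X), IsZero ((Coh.Rpush q 1).obj ((TwBCLib.tw p K).obj M.obj))) :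
    PreservesFiniteLimits (fm p q K) ∧ PreservesFiniteColimits (fm p q K) := by
  refine ((Functor.exact_tfae (fm p q K)).out 0 3 :
    (∀ S : ShortComplex (QCohCat.QCoh X), S.ShortExact → (S.map (fm p q K)).ShortExact) ↔
      (PreservesFiniteLimits (fm p q K) ∧ PreservesFiniteColimits (fm p q K))).1 fun S hS => ?_
  haveI := (ExactHpLib.exact_ι X).1
  haveI := (ExactHpLib.exact_ι X).2
  haveI := TwBCLib.preservesHomology_tw p K hKf
  haveI : PreservesFiniteLimits (TwBCLib.tw p K) :=
    ((TwBCLib.tw p K).exact_tfae.out 2 3 rfl rfl).1 inferInstance |>.1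
  have h := (hS.map_of_exact (ObjectProperty.ι (QCohCat.isQCoh X))).map_of_exact (TwBCLib.tw p K)
  haveI : PreservesFiniteLimits (Scheme.Modules.pushforward q) :=
    haveI : PreservesLimitsOfSize.{0, 0} (Scheme.Modules.pushforward q) :=
      (Scheme.Modules.pullbackPushforwardAdjunction q).rightAdjoint_preservesLimits
    PreservesLimitsOfSize.preservesFiniteLimits _
  exact Groth.Agent.RDerLib.map_shortExact (F := Scheme.Modules.pushforward q) h
    ((Groth.Agent.RDerLib.epi_map_g_iff (F := Scheme.Modules.pushforward q) _).1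
      (Groth.Agent.RDerLib.epi_map_g (F := Scheme.Modules.pushforward q) h 0 (hKa S.X₁)))

end FMKernelLib

end
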